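import Cfsg.Agent.H246.Dl.Mack
import Cfsg.Agent.CharactersDeep.MackeyLinear
import Cfsg.Agent.OddOrderCharacters.PF9.Mackey

/-!
# Mackey's formula for linear characters (helper809)

* `inner_lin` : `⟨f^G, f'^G⟩` is the number of double cosets `P x Q` with `Agr P Q f f' x`.
-/

set_option autoImplicit false

open scoped ComplexConjugate
open Cfsg

namespace Cfsg.Agent.H809.GL3

open Cfsg.Agent.OddOrderCharacters.Clifford Cfsg.Agent.Characters Cfsg.Agent.H246.Dl

universe u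

variable {G : Type u} [Group G]

/-- `f` and the conjugate of `f'` by `x` agree on `P ∩ x Q x⁻¹`. -/
def Agr (P Q : Subgroup G) (f : P →* ℂˣ) (f' : Q →* ℂˣ) (x : G) : Prop :=
  ∀ (t : P) (hx : x⁻¹ * t * x ∈ Q), f t = f' ⟨x⁻¹ * t * x, hx⟩

theorem tw_agr [Finite G] (P Q : Subgroup G) [Fintype P] (f : P →* ℂˣ) (f' : Q →* ℂˣ) {x : G}
    (h : Agr P Q f f' x) :
    tw P Q (fun t => (f t : ℂ)) (fun t => (f' t : ℂ)) x = (Nat.card {t : P // x⁻¹ * t * x ∈ Q} : ℂ) := by
  classical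
  have h1 : ∀ t : P, (f t : ℂ) * conj (extendByZero Q (fun t => (f' t : ℂ)) (x⁻¹ * t * x)) =
      if x⁻¹ * t * x ∈ Q then 1 else 0 := by
    intro t
    split_ifs with hx
    · rw [ext_apply_mem Q _ _ hx, ← h t hx]
      exact CharactersDeep.MackeyLinear.mul_conj_hom f t
    · rw [ext_apply_not_mem Q _ _ hx, map_zero, mul_zero]
  rw [tw_def, Finset.sum_congr rfl fun t _ => h1 t, Finset.sum_boole, Nat.card_eq_fintype_card,
    Fintype.card_subtype]

theorem tw_not_agr [Finite G] (P Q : Subgroup G) [Fintype P] (f : P →* ℂˣ) (f' : Q →* ℂˣ) {x : G}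
    (h : ¬ Agr P Q f f' x) : tw P Q (fun t => (f t : ℂ)) (fun t => (f' t : ℂ)) x = 0 := by
  classical
  unfold Agr at h
  push Not at h
  obtain ⟨t0, hx, hne⟩ := h
  have h1 : tw P Q (fun t => (f t : ℂ)) (fun t => (f' t : ℂ)) x =
      ((f t0 : ℂ) * conj (f' ⟨x⁻¹ * t0 * x, hx⟩ : ℂ)) * tw P Q (fun t => (f t : ℂ)) (fun t => (f' t : ℂ)) x := by
    conv_lhs => rw [tw_def, ← Equiv.sum_comp (Equiv.mulLeft t0)]
    rw [tw_def, Finset.mul_sum]
    refine Finset.sum_congr rfl fun t _ => ?_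
    have e1 : x⁻¹ * ((Equiv.mulLeft t0 t : P) : G) * x = ((⟨x⁻¹ * t0 * x, hx⟩ : Q) : G) * (x⁻¹ * t * x) := by
      show x⁻¹ * ((t0 : G) * t) * x = (x⁻¹ * t0 * x) * (x⁻¹ * t * x)
      group
    rw [e1, OddOrderCharacters.PF9.Mackey.extendByZero_mul]
    show ((f (t0 * t) : ℂˣ) : ℂ) * _ = _
    rw [map_mul, map_mul, Units.val_mul]
    ring
  by_contra h0
  have h2 : (f t0 : ℂ) * conj (f' ⟨x⁻¹ * t0 * x, hx⟩ : ℂ) = 1 := by
    have h3 := mul_right_cancel₀ h0 ((one_mul _).trans h1)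
    exact h3.symm
  apply hne
  apply Units.ext
  have h3 := CharactersDeep.MackeyLinear.mul_conj_hom f' ⟨x⁻¹ * t0 * x, hx⟩
  have h4 : conj (f' ⟨x⁻¹ * t0 * x, hx⟩ : ℂ) ≠ 0 := right_ne_zero_of_mul (h3.symm ▸ one_ne_zero)
  exact mul_right_cancel₀ h4 (h2.trans h3.symm)

/-- the sum of the Mackey terms -/
theorem inner_tw [Fintype G] (P Q : Subgroup G) [Fintype P] (α : P → ℂ) (β : Q → ℂ) :
    classInner (indFun P α) (indFun Q β) =
      (Nat.card P : ℂ)⁻¹ * ((Nat.card Q : ℂ)⁻¹ * ∑ x : G, tw P Q α β x) := by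
  rw [classInner_indFun P α _ (isClassFunction_indFun Q β), classInner_apply]
  congr 1
  simp only [tw_def]
  rw [Finset.sum_comm, Finset.mul_sum]
  refine Finset.sum_congr rfl fun t _ => ?_
  rw [indFun_apply, map_mul, map_sum, map_inv₀, Complex.conj_natCast, ← Finset.mul_sum]
  ring

/-! ### double cosets as orbits -/

/-- The action of `P × Q` with the double cosets as orbits. -/
@[reducible] def dcAct (P Q : Subgroup G) : MulAction (P × Q) G where
  smul ab g := ab.1 * g * (ab.2 : G)⁻¹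
  one_smul g := by
    show ((1 : P × Q).1 : G) * g * ((1 : P × Q).2 : G)⁻¹ = g
    simp
  mul_smul a b g := by
    show ((a * b).1 : G) * g * ((a * b).2 : G)⁻¹ = a.1 * (b.1 * g * (b.2 : G)⁻¹) * (a.2 : G)⁻¹
    simp [mul_assoc]

theorem mem_dc_iff (P Q : Subgroup G) (x y : G) :
    letI := dcAct P Q
    y ∈ MulAction.orbit (P × Q) x ↔ ∃ a ∈ P, ∃ b ∈ Q, y = a * x * b := by
  let _ := dcAct P Q
  constructor
  · rintro ⟨⟨a, b⟩, rfl⟩
    exact ⟨a, a.2, (b : G)⁻¹, Q.inv_mem b.2, rfl⟩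
  · rintro ⟨a, ha, b, hb, rfl⟩
    refine ⟨(⟨a, ha⟩, ⟨b⁻¹, Q.inv_mem hb⟩), ?_⟩
    show a * x * (b⁻¹)⁻¹ = a * x * b
    rw [inv_inv]

theorem card_stab (P Q : Subgroup G) (x : G) :
    letI := dcAct P Q
    Nat.card (MulAction.stabilizer (P × Q) x) = Nat.card {t : P // x⁻¹ * t * x ∈ Q} := by
  let _ := dcAct P Q
  refine Nat.card_congr ⟨fun ab => ⟨(ab : P × Q).1, ?_⟩, fun d => ⟨((d : P), ⟨x⁻¹ * (d : P) * x, d.2⟩), ?_⟩,
    ?_, ?_⟩
  · have h : (((ab : P × Q).1 : P) : G) * x * (((ab : P × Q).2 : Q) : G)⁻¹ = x := ab.2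
    have h2 : x⁻¹ * (((ab : P × Q).1 : P) : G) * x = (((ab : P × Q).2 : Q) : G) := by
      have h3 := mul_inv_eq_iff_eq_mul.1 h
      rw [mul_assoc, h3, inv_mul_cancel_left]
    rw [h2]
    exact ((ab : P × Q).2).2
  · show (d : G) * x * (x⁻¹ * (d : P) * x)⁻¹ = x
    group
  · rintro ⟨⟨a, b⟩, h⟩
    have h : (a : G) * x * (b : G)⁻¹ = x := h
    apply Subtype.ext
    refine Prod.ext rfl (Subtype.ext ?_)
    have h3 := mul_inv_eq_iff_eq_mul.1 h
    show x⁻¹ * (a : G) * x = b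
    rw [mul_assoc, h3, inv_mul_cancel_left]
  · intro d
    rfl

theorem card_orbit_mul {K X : Type*} [Group K] [MulAction K X] (x : X) :
    Nat.card (MulAction.orbit K x) * Nat.card (MulAction.stabilizer K x) = Nat.card K := by
  rw [← Nat.card_prod]
  exact Nat.card_congr (MulAction.orbitProdStabilizerEquivGroup K x)

theorem isClass_lin {T : Type*} [Group T] (f : T →* ℂˣ) : IsClassFunction T (fun t => (f t : ℂ)) := by
  intro g h
  show ((f (h * g * h⁻¹) : ℂˣ) : ℂ) = f g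
  rw [map_mul, map_mul, map_inv, mul_comm (f h), mul_inv_cancel_right]

/-- **Mackey's formula** for linear characters. -/
theorem inner_lin [Fintype G] (P Q : Subgroup G) (f : P →* ℂˣ) (f' : Q →* ℂˣ) {ι : Type*} [Fintype ι] (x : ι → G)
    (hcov : ∀ y, ∃ i, ∃ a ∈ P, ∃ b ∈ Q, y = a * x i * b)
    (hd : ∀ i j, (∃ a ∈ P, ∃ b ∈ Q, x j = a * x i * b) → i = j) :
    classInner (indFun P fun t => (f t : ℂ)) (indFun Q fun t => (f' t : ℂ)) =
      (Nat.card {i // Agr P Q f f' (x i)} : ℂ) := by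
  classical
  let _ := dcAct P Q
  have : Fintype P := Fintype.ofFinite P
  have hP : (Nat.card P : ℂ) ≠ 0 := by exact_mod_cast Nat.card_pos.ne'
  have hQ : (Nat.card Q : ℂ) ≠ 0 := by exact_mod_cast Nat.card_pos.ne'
  set τ : G → ℂ := fun y => tw P Q (fun t => (f t : ℂ)) (fun t => (f' t : ℂ)) y with hτ
  have hsum : ∑ y : G, τ y = ∑ i : ι, ∑ y : G, (if y ∈ MulAction.orbit (P × Q) (x i) then τ y else 0) := by
    rw [Finset.sum_comm]
    refine Finset.sum_congr rfl fun y _ => ?_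
    obtain ⟨i, hi⟩ := hcov y
    rw [Finset.sum_eq_single i, if_pos ((mem_dc_iff P Q _ _).2 hi)]
    · intro j _ hj
      rw [if_neg]
      intro hj2
      apply hj
      rw [← mem_dc_iff] at hi
      apply hd
      rw [← mem_dc_iff]
      rw [← MulAction.orbit_eq_iff] at hi hj2 ⊢
      rw [← hj2, hi]
    · exact fun h => absurd (Finset.mem_univ _) h
  have hone : ∀ i : ι, ∑ y : G, (if y ∈ MulAction.orbit (P × Q) (x i) then τ y else 0) =
      (Nat.card P : ℂ) * (Nat.card Q : ℂ) * (if Agr P Q f f' (x i) then 1 else 0) := by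
    intro i
    have h1 : ∀ y : G, (if y ∈ MulAction.orbit (P × Q) (x i) then τ y else 0) =
        (if y ∈ MulAction.orbit (P × Q) (x i) then τ (x i) else 0) := by
      intro y
      split_ifs with h
      · obtain ⟨a, ha, b, hb, rfl⟩ := (mem_dc_iff P Q _ _).1 h
        exact tw_mul P Q (isClass_lin f) (isClass_lin f') ha hb (x i)
      · rfl
    rw [Finset.sum_congr rfl fun y _ => h1 y, ← Finset.sum_filter, Finset.sum_const, nsmul_eq_mul]
    have h5 : (Finset.univ.filter fun y : G => y ∈ MulAction.orbit (P × Q) (x i)).card =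
        Nat.card (MulAction.orbit (P × Q) (x i)) := (Nat.subtype_card _ fun y => by simp).symm
    have h6 := card_orbit_mul (K := P × Q) (x i)
    rw [card_stab, Nat.card_prod] at h6
    rw [h5]
    by_cases hA : Agr P Q f f' (x i)
    · rw [if_pos hA, mul_one, hτ]
      simp only
      rw [tw_agr P Q f f' hA]
      exact_mod_cast h6
    · rw [if_neg hA, mul_zero, hτ]
      simp only
      rw [tw_not_agr P Q f f' hA, mul_zero]
  rw [inner_tw]
  show (Nat.card P : ℂ)⁻¹ * ((Nat.card Q : ℂ)⁻¹ * ∑ y : G, τ y) = _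
  rw [hsum, Finset.sum_congr rfl fun i _ => hone i, ← Finset.mul_sum, Finset.sum_boole, Nat.card_eq_fintype_card
    (α := {i // Agr P Q f f' (x i)}), Fintype.card_subtype]
  field_simp

end Cfsg.Agent.H809.GL3
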